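import Cfsg.Agent.H843.IMC.Co1B
import Cfsg.Agent.S5549

/-!
# The exterior powers of the 24-dimensional representation of `Co0` (helper309)

`altk_diagonal'` : `altk k (diagonal d) = ∑_{|s| = k} ∏_{i ∈ s} d i`; `irr_pow`: for `k ≤ 3` the exterior power is irreducible;
`exists_2024`.
-/

set_option autoImplicit false

namespace Cfsg.Agent.H309.CoD

open Cfsg Cfsg.Agent.H33 Cfsg.Agent.H672.SporIM Cfsg.Agent.Characters.Core Cfsg.Agent.H843.IMC
open Cfsg.Agent.H843.IMC.Lam Cfsg.Agent.H843.IMC.LamCo1 Cfsg.Agent.H843.IMC.Co1B Cfsg.Agent.H419.LeechIrr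
open Cfsg.Agent.SporadicA.GolayBase Cfsg.Agent.SporadicStructure.M24El
open Cfsg.Agent.SporadicA.Co0Mono Cfsg.Agent.SporadicA.Co1Simple Cfsg.Agent.Co2Type.Mono
open Cfsg.Agent.SporadicStructure.Co0Base
open scoped ComplexConjugate

section alt

variable {I : Type*} [Fintype I] [DecidableEq I]

theorem card_fiber (k : ℕ) {s : Finset I} (hs : s.card = k) :
    ((Finset.univ.filter fun i : Fin k → I => Function.Injective i).filter
      fun i => Finset.univ.image i = s).card = k.factorial := by
  classical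
  have h1 : Fintype.card (Fin k ≃ s) = k.factorial := by
    rw [Fintype.card_equiv ((Finset.equivFinOfCardEq hs).symm), Fintype.card_fin]
  rw [← h1, ← Finset.card_univ]
  symm
  refine Finset.card_bij (fun (e : Fin k ≃ s) _ => fun t => ((e t : s) : I)) ?_ ?_ ?_
  · intro e _
    rw [Finset.mem_filter, Finset.mem_filter]
    refine ⟨⟨Finset.mem_univ _, fun a b h => e.injective (Subtype.ext h)⟩, ?_⟩
    ext x
    rw [Finset.mem_image]
    constructor
    · rintro ⟨t, -, rfl⟩
      exact (e t).2
    · intro hx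
      exact ⟨e.symm ⟨x, hx⟩, Finset.mem_univ _, by rw [Equiv.apply_symm_apply]⟩
  · intro e _ e' _ h
    ext t
    exact congrFun h t
  · intro i hi
    rw [Finset.mem_filter, Finset.mem_filter] at hi
    obtain ⟨⟨-, hinj⟩, him⟩ := hi
    have hm : ∀ t, i t ∈ s := fun t => by rw [← him]; exact Finset.mem_image_of_mem _ (Finset.mem_univ _)
    refine ⟨Equiv.ofBijective (fun t => (⟨i t, hm t⟩ : s)) ⟨?_, ?_⟩, Finset.mem_univ _, rfl⟩
    · intro a b h
      exact hinj (congrArg Subtype.val h)
    · rintro ⟨x, hx⟩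
      rw [← him, Finset.mem_image] at hx
      obtain ⟨t, -, ht⟩ := hx
      exact ⟨t, Subtype.ext ht⟩

/-- the trace of an exterior power of a diagonal matrix -/
theorem altk_diagonal' (k : ℕ) (d : I → ℂ) : altk k (Matrix.diagonal d) =
    ∑ s ∈ Finset.powersetCard k (Finset.univ : Finset I), ∏ i ∈ s, d i := by
  classical
  rw [altk_diagonal]
  have h1 : (∑ i : Fin k → I, (if Function.Injective i then (1 : ℂ) else 0) * ∏ t, d (i t)) =
      ∑ i ∈ Finset.univ.filter (fun i : Fin k → I => Function.Injective i), ∏ x ∈ Finset.univ.image i, d x := by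
    rw [Finset.sum_filter]
    refine Finset.sum_congr rfl fun i _ => ?_
    by_cases hi : Function.Injective i
    · rw [if_pos hi, if_pos hi, one_mul, Finset.prod_image (fun a _ b _ h => hi h)]
    · rw [if_neg hi, if_neg hi, zero_mul]
  have h2 : ∀ i ∈ Finset.univ.filter (fun i : Fin k → I => Function.Injective i),
      Finset.univ.image i ∈ Finset.powersetCard k (Finset.univ : Finset I) := by
    intro i hi
    rw [Finset.mem_powersetCard]
    refine ⟨Finset.subset_univ _, ?_⟩
    rw [Finset.card_image_of_injective _ (Finset.mem_filter.1 hi).2, Finset.card_univ, Fintype.card_fin]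
  rw [h1, ← Finset.sum_fiberwise_of_maps_to h2]
  have h3 : ∀ s ∈ Finset.powersetCard k (Finset.univ : Finset I),
      (∑ i ∈ (Finset.univ.filter fun i : Fin k → I => Function.Injective i).filter
        (fun i => Finset.univ.image i = s), ∏ x ∈ Finset.univ.image i, d x) = (k.factorial : ℂ) * ∏ x ∈ s, d x := by
    intro s hs
    rw [Finset.sum_congr rfl (fun i hi => by rw [(Finset.mem_filter.1 hi).2] :
      ∀ i ∈ (Finset.univ.filter fun i : Fin k → I => Function.Injective i).filter
        (fun i => Finset.univ.image i = s), ∏ x ∈ Finset.univ.image i, d x = ∏ x ∈ s, d x)]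
    rw [Finset.sum_const, card_fiber k (Finset.mem_powersetCard.1 hs).2, nsmul_eq_mul]
  rw [Finset.sum_congr rfl h3, ← Finset.mul_sum, ← mul_assoc, inv_mul_cancel₀ (by exact_mod_cast k.factorial_ne_zero),
    one_mul]

end alt

/-- the linear character of a set of points -/
noncomputable def lamS (s : Finset GolayPt) : Multiplicative golayCode →* ℂˣ where
  toFun e := sgnU (Multiplicative.ofAdd (∑ i ∈ s, (wd e).toAdd i))
  map_one' := by
    rw [map_one]
    simp
  map_mul' a b := by
    rw [← map_mul sgnU, ← ofAdd_add, ← Finset.sum_add_distrib, map_mul wd]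
    rfl

theorem lamS_apply (s : Finset GolayPt) (e : Multiplicative golayCode) :
    ((lamS s e : ℂˣ) : ℂ) = sgnC (∑ i ∈ s, ((e.toAdd : golayCode) : GolayPt → ZMod 2) i) := rfl

theorem sgnC_finset_sum (s : Finset GolayPt) (f : GolayPt → ZMod 2) : sgnC (∑ i ∈ s, f i) = ∏ i ∈ s, sgnC (f i) := by
  unfold sgnC
  rw [ofAdd_sum, map_prod, Units.coe_prod]

theorem exists_perm_set {k : ℕ} (hk : k ≤ 5) {a b : Finset GolayPt} (ha : a.card = k) (hb : b.card = k) :
    ∃ g : M24, b.map (g : Equiv.Perm GolayPt).toEmbedding = a := by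
  have h5 : MulAction.IsMultiplyPretransitive M24 GolayPt 5 := Cfsg.Agent.S0366.result
  have h1 : MulAction.IsMultiplyPretransitive M24 GolayPt k :=
    MulAction.isMultiplyPretransitive_of_le (n := 5) hk (by simp [GolayPt])
  let x : Fin k ↪ GolayPt := (Finset.equivFinOfCardEq hb).symm.toEmbedding.trans (Function.Embedding.subtype _)
  let y : Fin k ↪ GolayPt := (Finset.equivFinOfCardEq ha).symm.toEmbedding.trans (Function.Embedding.subtype _)
  obtain ⟨g, hg⟩ := MulAction.exists_smul_eq M24 x y
  refine ⟨g, ?_⟩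
  apply Finset.eq_of_subset_of_card_le
  · intro z hz
    rw [Finset.mem_map] at hz
    obtain ⟨w, hw, rfl⟩ := hz
    have h2 : (g • x) (Finset.equivFinOfCardEq hb ⟨w, hw⟩) = y (Finset.equivFinOfCardEq hb ⟨w, hw⟩) := by rw [hg]
    have h3 : x (Finset.equivFinOfCardEq hb ⟨w, hw⟩) = w := by
      show (((Finset.equivFinOfCardEq hb).symm (Finset.equivFinOfCardEq hb ⟨w, hw⟩) : b) : GolayPt) = w
      rw [Equiv.symm_apply_apply]
    have h4 : (g • x) (Finset.equivFinOfCardEq hb ⟨w, hw⟩) = (g : Equiv.Perm GolayPt) w := by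
      rw [Function.Embedding.smul_apply, h3]
      rfl
    show (g : Equiv.Perm GolayPt) w ∈ a
    rw [← h4, h2]
    exact ((Finset.equivFinOfCardEq ha).symm _).2
  · rw [Finset.card_map, ha, hb]

theorem altk_sign (k : ℕ) (c : golayCode) : altk k (matC (signCo0 c)) =
    ∑ s ∈ Finset.powersetCard k (Finset.univ : Finset GolayPt), sgnC (∑ i ∈ s, (c : GolayPt → ZMod 2) i) := by
  rw [matC_sign, altk_diagonal']
  exact Finset.sum_congr rfl fun s _ => (sgnC_finset_sum s _).symm

/-- **the exterior powers are irreducible** -/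
theorem irr_pow {k : ℕ} (hk : k ≤ 3) : IsIrrCharacter Co0 (fun g => altk k (matC g)) := by
  classical
  have := Fintype.ofFinite Co0
  have := Fintype.ofFinite (Multiplicative golayCode)
  have hne : Nonempty {s : Finset GolayPt // s.card = k} := by
    obtain ⟨s, -, hs⟩ := Finset.exists_subset_card_eq (s := (Finset.univ : Finset GolayPt)) (n := k) (by
      rw [Finset.card_univ]
      have : Fintype.card GolayPt = 24 := by simp [GolayPt]
      omega)
    exact ⟨⟨s, hs⟩⟩
  refine irr_of_orbit sg0 (isCharacter_altk k matH) (A := {s : Finset GolayPt // s.card = k})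
    (fun a e => ((lamS a.1 e : ℂˣ) : ℂ))
    (fun a => Cfsg.Agent.CharDeep.LinearChar.isIrrCharacter_of_hom _) ?_ ?_ ?_
  · intro a b h
    apply Subtype.ext
    refine Cfsg.Agent.S5549.fs_inj ?_ (by rw [a.2, b.2]; omega)
    apply LinearMap.ext
    intro c
    have h1 := congrFun h (Multiplicative.ofAdd c)
    simp only [lamS_apply] at h1
    exact sgnC_injective h1
  · funext e
    rw [Finset.sum_apply]
    show altk k (matC (signCo0 e.toAdd)) = _
    rw [altk_sign, Finset.sum_subtype (Finset.powersetCard k (Finset.univ : Finset GolayPt))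
      (p := fun s => s.card = k) (fun s => by
        rw [Finset.mem_powersetCard]
        exact ⟨fun h => h.2, fun h => ⟨Finset.subset_univ _, h⟩⟩)]
    rfl
  · intro a b
    obtain ⟨g, hg⟩ := exists_perm_set (k := k) (by omega) a.2 b.2
    refine ⟨permCo0 g, wp g, ?_, ?_⟩
    · intro e
      show signCo0 (wordPerm g e.toAdd) = permCo0 g * signCo0 e.toAdd * (permCo0 g)⁻¹
      rw [perm_mul_sign_mul_inv]
    · funext e
      rw [Function.comp_apply, lamS_apply, lamS_apply]
      congr 1
      show ∑ i ∈ b.1, ((e.toAdd : golayCode) : GolayPt → ZMod 2) i = ∑ i ∈ a.1, ((e.toAdd : golayCode) : GolayPt → ZMod 2)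
        ((g : Equiv.Perm GolayPt).symm i)
      rw [← hg, Finset.sum_map]
      refine Finset.sum_congr rfl fun i _ => ?_
      exact congrArg ((e.toAdd : golayCode) : GolayPt → ZMod 2) ((g : Equiv.Perm GolayPt).symm_apply_apply i).symm

theorem altk_one' (k : ℕ) : altk k (matC 1) = ((Nat.choose 24 k : ℕ) : ℂ) := by
  have h1 : (1 : Co0) = signCo0 0 := signCo0_zero.symm
  rw [h1, altk_sign]
  have h2 : ∀ s ∈ Finset.powersetCard k (Finset.univ : Finset GolayPt),
      sgnC (∑ i ∈ s, ((0 : golayCode) : GolayPt → ZMod 2) i) = 1 := by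
    intro s _
    have h0 : ∑ i ∈ s, ((0 : golayCode) : GolayPt → ZMod 2) i = 0 := Finset.sum_eq_zero fun i _ => rfl
    rw [h0, sgnC_zero]
  rw [Finset.sum_congr rfl h2, Finset.sum_const, Finset.card_powersetCard, Finset.card_univ]
  have : Fintype.card GolayPt = 24 := by simp [GolayPt]
  rw [this]
  simp

theorem altk_neg' {k : ℕ} (hk : Odd k) : altk k (matC (signCo0 allOne)) = - altk k (matC 1) := by
  rw [altk_one', altk_sign]
  have h2 : ∀ s ∈ Finset.powersetCard k (Finset.univ : Finset GolayPt),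
      sgnC (∑ i ∈ s, ((allOne : golayCode) : GolayPt → ZMod 2) i) = -1 := by
    intro s hs
    have h0 : ∏ i ∈ s, sgnC (((allOne : golayCode) : GolayPt → ZMod 2) i) = ∏ _i ∈ s, (-1 : ℂ) :=
      Finset.prod_congr rfl fun i _ => sgnC_one
    rw [sgnC_finset_sum, h0, Finset.prod_const, (Finset.mem_powersetCard.1 hs).2, hk.neg_one_pow]
  rw [Finset.sum_congr rfl h2, Finset.sum_const, Finset.card_powersetCard, Finset.card_univ]
  have : Fintype.card GolayPt = 24 := by simp [GolayPt]
  rw [this]
  simp

/-- **the exterior cube of the 24-dimensional representation of `Co0`** -/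
theorem exists_2024 : ∃ χ : Co0 → ℂ, IsIrrCharacter Co0 χ ∧ χ (signCo0 allOne) = - χ 1 ∧ charDegree χ = 2024 := by
  refine ⟨fun g => altk 3 (matC g), irr_pow le_rfl, altk_neg' (by decide), ?_⟩
  refine Cfsg.Agent.H670.PSing.charDegree_eq_of ?_
  show altk 3 (matC 1) = _
  rw [altk_one']
  norm_num [Nat.choose]

end Cfsg.Agent.H309.CoD
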